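import Mathlib
import Groth.Agent.Lib.GrpSchField.ReducedProd

/-!
# Separable residue fields and extensions of discrete valuation rings
-/

set_option autoImplicit false
set_option backward.isDefEq.respectTransparency false
set_option backward.isDefEq.respectTransparency.types false
set_option synthInstance.maxHeartbeats 200000

universe u

open TensorProduct

namespace GrothLib.PseudoCompl

variable (k k' : Type u) [Field k] [Field k'] [Algebra k k']

theorem isGeometricallyReduced_trans (L : Type u) [CommRing L] [Algebra k L] [Algebra k' L]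
    [IsScalarTower k k' L] [Algebra.IsGeometricallyReduced k k'] [Algebra.IsGeometricallyReduced k' L] :
    Algebra.IsGeometricallyReduced k L := by
  rw [Algebra.isGeometricallyReduced_field_iff]
  let K := AlgebraicClosure k
  haveI : IsReduced (k' ⊗[k] K) :=
    isReduced_of_injective (Algebra.TensorProduct.comm k k' K) (Algebra.TensorProduct.comm k k' K).injective
  haveI : IsReduced ((k' ⊗[k] K) ⊗[k'] L) := GrothLib.GrpSchField.isReduced_tensorProduct
  haveI : IsReduced (L ⊗[k'] (k' ⊗[k] K)) :=
    isReduced_of_injective (Algebra.TensorProduct.comm k' L (k' ⊗[k] K)) (Algebra.TensorProduct.comm k' L (k' ⊗[k] K)).injective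
  haveI : IsReduced (L ⊗[k] K) :=
    isReduced_of_injective (Algebra.TensorProduct.cancelBaseChange k k' k' L K).symm
      (Algebra.TensorProduct.cancelBaseChange k k' k' L K).symm.injective
  exact isReduced_of_injective (Algebra.TensorProduct.comm k K L) (Algebra.TensorProduct.comm k K L).injective

theorem isGeometricallyReduced_baseChange (A : Type u) [CommRing A] [Algebra k A]
    [Algebra.IsGeometricallyReduced k A] : Algebra.IsGeometricallyReduced k' (k' ⊗[k] A) := by
  rw [Algebra.isGeometricallyReduced_field_iff]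
  let K := AlgebraicClosure k'
  haveI : IsReduced (K ⊗[k] A) := GrothLib.GrpSchField.isReduced_tensorProduct
  exact isReduced_of_injective (Algebra.TensorProduct.cancelBaseChange k k' k' K A)
    (Algebra.TensorProduct.cancelBaseChange k k' k' K A).injective

theorem isGeometricallyReduced_localization (A : Type u) [CommRing A] [Algebra k A]
    [Algebra.IsGeometricallyReduced k A] (P : Ideal A) [P.IsPrime] :
    Algebra.IsGeometricallyReduced k (Localization.AtPrime P) := by
  rw [Algebra.isGeometricallyReduced_field_iff]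
  let K := AlgebraicClosure k
  let L := Localization.AtPrime P
  let M := P.primeCompl.map (Algebra.TensorProduct.includeRight (R := k) (A := K) (B := A))
  haveI : IsReduced (K ⊗[k] A) := (Algebra.isGeometricallyReduced_field_iff k A).1 inferInstance
  let e := IsLocalization.tensorProductEquivOfMapIncludeRight k K P.primeCompl L (Localization M)
  exact isReduced_of_injective e e.injective

/-- The local ring of the base change at a generic point of the special fibre. -/
theorem exists_local_extension (R : Type u) [CommRing R] [IsDomain R] [IsDiscreteValuationRing R] [Algebra k R]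
    (π : R) (hπ : Irreducible π) (hres : Algebra.IsGeometricallyReduced k (R ⧸ IsLocalRing.maximalIdeal R)) :
    ∃ (L : Type u) (_ : CommRing L) (_ : IsLocalRing L) (_ : Algebra k' L) (φ : R →+* L) (K₀ : Type u) (_ : CommRing K₀)
      (_ : Algebra k' K₀) (_ : Algebra.IsGeometricallyReduced k' K₀) (ψ : L →ₐ[k'] K₀),
      φ.comp (algebraMap k R) = (algebraMap k' L).comp (algebraMap k k') ∧
      IsLocalRing.maximalIdeal L = Ideal.span {φ π} ∧ (∀ n, φ π ^ n ≠ 0) ∧
      Function.Surjective ψ ∧ RingHom.ker ψ = IsLocalRing.maximalIdeal L := by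
  let κ := R ⧸ IsLocalRing.maximalIdeal R
  let F := k' ⊗[k] R
  let ρ : F →ₐ[k'] k' ⊗[k] κ := Algebra.TensorProduct.map (AlgHom.id k' k') (Ideal.Quotient.mkₐ k _)
  haveI := isGeometricallyReduced_baseChange k k' κ
  haveI : IsReduced (k' ⊗[k] κ) := Algebra.isReduced_of_isGeometricallyReduced k'
  let t : F := 1 ⊗ₜ π
  have hρs : Function.Surjective ρ :=
    LinearMap.lTensor_surjective k' (g := (Ideal.Quotient.mkₐ k (IsLocalRing.maximalIdeal R)).toLinearMap) Ideal.Quotient.mk_surjective
  have hρ : RingHom.ker ρ = Ideal.span {t} := by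
    have h := Algebra.TensorProduct.lTensor_ker (A := k') (Ideal.Quotient.mkₐ k (IsLocalRing.maximalIdeal R)) Ideal.Quotient.mk_surjective
    refine (Eq.trans ?_ h).trans ?_
    · ext x; rfl
    · refine (congrArg (Ideal.map _) ((Ideal.Quotient.mkₐ_ker k (IsLocalRing.maximalIdeal R)).trans hπ.maximalIdeal_eq)).trans ?_
      rw [Ideal.map_span, Set.image_singleton]
      rfl
  haveI : Nontrivial (k' ⊗[k] κ) :=
    (Algebra.TensorProduct.includeRight_injective (A := k') (B := κ) (algebraMap k k').injective).nontrivial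
  obtain ⟨⟨q, hq⟩⟩ := Ideal.nonempty_minimalPrimes (I := (⊥ : Ideal (k' ⊗[k] κ))) bot_ne_top
  haveI : q.IsPrime := hq.1.1
  let P : Ideal F := q.comap ρ
  let L := Localization.AtPrime P
  let K₀ := Localization.AtPrime q
  have htP : t ∈ P := by
    have : ρ t = 0 := RingHom.mem_ker.1 (hρ ▸ Ideal.mem_span_singleton_self t)
    simp [P, Ideal.mem_comap, this]
  let ψ : L →+* K₀ := Localization.localRingHom P q ρ.toRingHom rfl
  haveI := isGeometricallyReduced_localization k' (k' ⊗[k] κ) q
  have hψs : Function.Surjective ψ := by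
    intro z
    obtain ⟨a, s, rfl⟩ := IsLocalization.exists_mk'_eq q.primeCompl z
    obtain ⟨a, rfl⟩ := hρs a
    obtain ⟨b, hb⟩ := hρs s
    have hbP : b ∈ P.primeCompl := fun h => s.2 (hb ▸ h)
    refine ⟨IsLocalization.mk' L a (⟨b, hbP⟩ : P.primeCompl), ?_⟩
    erw [Localization.localRingHom_mk']
    congr 1
    exact Subtype.ext hb
  let τ : L := algebraMap F L t
  have hK₀ : IsField K₀ := by
    haveI : Ring.KrullDimLE 0 K₀ := by
      rw [Ring.krullDimLE_zero_iff]
      intro Q hQ
      have h : Q.comap (algebraMap _ K₀) = q := by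
        have hle : Q.comap (algebraMap _ K₀) ≤ q := ((IsLocalization.AtPrime.orderIsoOfPrime K₀ q) ⟨Q, hQ⟩).2.2
        exact le_antisymm hle (hq.2 ⟨Ideal.IsPrime.comap _, bot_le⟩ hle)
      have : Q = IsLocalRing.maximalIdeal K₀ := by
        rw [← IsLocalization.map_comap q.primeCompl K₀ Q]
        exact (congrArg (Ideal.map (algebraMap _ K₀)) h).trans (Localization.AtPrime.map_eq_maximalIdeal)
      exact this ▸ IsLocalRing.maximalIdeal.isMaximal K₀
    exact Ring.KrullDimLE.isField_of_isReduced
  have hmax : IsLocalRing.maximalIdeal L = Ideal.span {τ} := by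
    refine le_antisymm ?_ ?_
    · intro x hx
      obtain ⟨a, s, rfl⟩ := IsLocalization.exists_mk'_eq P.primeCompl x
      have ha : a ∈ P := (IsLocalization.AtPrime.mk'_mem_maximal_iff L P a s).1 hx
      have h0 : algebraMap _ K₀ (ρ a) = 0 := by
        by_contra hne
        obtain ⟨b, hb⟩ := hK₀.mul_inv_cancel hne
        have hu : IsUnit (algebraMap _ K₀ (ρ a)) := IsUnit.of_mul_eq_one _ hb
        exact ((IsLocalization.AtPrime.isUnit_to_map_iff K₀ q _).1 hu) ha
      obtain ⟨⟨c, hc⟩, hca⟩ := (IsLocalization.map_eq_zero_iff q.primeCompl K₀ _).1 h0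
      obtain ⟨c, rfl⟩ := hρs c
      have hk : c * a ∈ Ideal.span {t} := by
        rw [← hρ, RingHom.mem_ker, map_mul]
        exact hca
      have hm : IsLocalization.mk' L a s * algebraMap F L (c * (s : F)) ∈ Ideal.span {τ} := by
        rw [map_mul, mul_left_comm, IsLocalization.mk'_spec, ← map_mul]
        have := Ideal.mem_map_of_mem (algebraMap F L) hk
        rwa [Ideal.map_span, Set.image_singleton] at this
      have hcs : c * (s : F) ∈ P.primeCompl := P.primeCompl.mul_mem hc s.2
      exact ((Ideal.span {τ}).mul_unit_mem_iff_mem (IsLocalization.map_units L ⟨_, hcs⟩)).1 hm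
    · rw [Ideal.span_le, Set.singleton_subset_iff]
      exact (IsLocalization.AtPrime.to_map_mem_maximal_iff L P t).2 htP
  have hreg : ∀ x : F, t * x = 0 → x = 0 := by
    have hinj : Function.Injective (LinearMap.mulLeft k π) := fun a b h => mul_left_cancel₀ hπ.ne_zero h
    have h2 := Module.Flat.lTensor_preserves_injective_linearMap (M := k') (LinearMap.mulLeft k π) hinj
    intro x hx
    refine (injective_iff_map_eq_zero _).1 h2 x ?_
    rw [← hx]
    clear hx
    induction x using TensorProduct.induction_on with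
    | zero => simp
    | tmul a b =>
      simp [t]
      exact ((Algebra.TensorProduct.tmul_mul_tmul _ _ _ _).trans (by rw [one_mul])).symm
    | add a b ha hb => rw [map_add, mul_add, ha, hb]
  have hne : ∀ n, τ ^ n ≠ 0 := by
    intro n h0
    rw [← map_pow, IsLocalization.map_eq_zero_iff P.primeCompl L] at h0
    obtain ⟨⟨c, hc⟩, hc0⟩ := h0
    have : c = 0 := by
      induction n with
      | zero => simpa using hc0
      | succ n ih =>
        refine ih (hreg _ ?_)
        rw [← hc0, pow_succ]
        ring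
    exact hc (this ▸ P.zero_mem)
  let ψ' : L →ₐ[k'] K₀ := AlgHom.mk ψ fun c => by
    change ψ (algebraMap k' L c) = algebraMap k' K₀ c
    rw [IsScalarTower.algebraMap_apply k' F L, Localization.localRingHom_to_map,
      IsScalarTower.algebraMap_apply k' (k' ⊗[k] κ) K₀]
    exact congrArg _ (ρ.commutes c)
  have hker : RingHom.ker ψ' = IsLocalRing.maximalIdeal L := by
    refine le_antisymm (IsLocalRing.le_maximalIdeal (RingHom.ker_ne_top ψ'.toRingHom)) ?_
    rw [hmax, Ideal.span_le, Set.singleton_subset_iff, SetLike.mem_coe, RingHom.mem_ker]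
    change ψ (algebraMap F L t) = 0
    rw [Localization.localRingHom_to_map]
    have h0 : ρ t = 0 := RingHom.mem_ker.1 (hρ ▸ Ideal.mem_span_singleton_self t)
    exact (congrArg (algebraMap _ K₀) h0).trans (map_zero _)
  refine ⟨L, inferInstance, inferInstance, inferInstance,
    (algebraMap F L).comp (Algebra.TensorProduct.includeRight : R →ₐ[k] F).toRingHom,
    K₀, inferInstance, inferInstance, inferInstance, ψ', ?_, hmax, hne, hψs, hker⟩
  ext c
  change algebraMap F L (1 ⊗ₜ algebraMap k R c) = algebraMap k' L (algebraMap k k' c)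
  rw [IsScalarTower.algebraMap_apply k' F L]
  congr 1
  rw [Algebra.TensorProduct.algebraMap_apply, Algebra.algebraMap_self, RingHom.id_apply]
  exact (Algebra.TensorProduct.tmul_one_eq_one_tmul c).symm

/-- A discrete valuation ring extends along any field extension, keeping the residue field separable. -/
theorem exists_dvr_extension (R : Type u) [CommRing R] [IsDomain R] [IsDiscreteValuationRing R] [Algebra k R]
    (hres : Algebra.IsGeometricallyReduced k (R ⧸ IsLocalRing.maximalIdeal R)) :
    ∃ (R' : Type u) (_ : CommRing R') (_ : IsDomain R') (_ : IsDiscreteValuationRing R') (_ : Algebra k' R')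
      (φ : R →+* R'), IsLocalHom φ ∧ Function.Injective φ ∧
        φ.comp (algebraMap k R) = (algebraMap k' R').comp (algebraMap k k') ∧
        Algebra.IsGeometricallyReduced k' (R' ⧸ IsLocalRing.maximalIdeal R') := by
  obtain ⟨π, hπ⟩ := IsDiscreteValuationRing.exists_irreducible R
  obtain ⟨L, _, _, _, φ₀, K₀, _, _, _, ψ', hcomm, hmax, hτne, hψs, hker⟩ := exists_local_extension k k' R π hπ hres
  let τ : L := φ₀ π
  let N : Ideal L := ⨅ n : ℕ, Ideal.span {τ ^ n}
  have hpow : ∀ n, τ ^ n ∉ N := by
    intro n hn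
    obtain ⟨b, hb⟩ := Ideal.mem_span_singleton.1 (Ideal.mem_iInf.1 hn (n + 1))
    have hu : IsUnit (1 - τ * b) := by
      refine (IsLocalRing.notMem_maximalIdeal).1 fun h => ?_
      have hτb : τ * b ∈ IsLocalRing.maximalIdeal L := Ideal.mul_mem_right _ _ (hmax ▸ Ideal.mem_span_singleton_self τ)
      exact (IsLocalRing.maximalIdeal.isMaximal L).ne_top ((Ideal.eq_top_iff_one _).2 (by simpa using add_mem h hτb))
    have h0 : τ ^ n = 0 := by
      refine hu.mul_left_eq_zero.1 ?_
      rw [mul_sub, mul_one, ← mul_assoc, ← pow_succ, ← hb, sub_self]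
    exact hτne n h0
  have hN : N ≤ IsLocalRing.maximalIdeal L := by
    rw [hmax]
    exact le_trans (iInf_le _ 1) (by rw [pow_one])
  haveI : Nontrivial (L ⧸ N) :=
    Ideal.Quotient.nontrivial_iff.2 fun h => (IsLocalRing.maximalIdeal.isMaximal L).ne_top (top_le_iff.1 (h ▸ hN))
  let R' := L ⧸ N
  haveI : IsLocalRing R' := IsLocalRing.of_surjective' (Ideal.Quotient.mk N) Ideal.Quotient.mk_surjective
  let τ' : R' := Ideal.Quotient.mk N τ
  have hunit : ∀ x : L, IsUnit (Ideal.Quotient.mk N x) → IsUnit x := by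
    intro x hu
    obtain ⟨y, hy⟩ := hu.exists_right_inv
    obtain ⟨y, rfl⟩ := Ideal.Quotient.mk_surjective y
    by_contra hx
    rw [← map_mul, ← map_one (Ideal.Quotient.mk N), Ideal.Quotient.eq] at hy
    have h1 := hN hy
    have h2 : x * y ∈ IsLocalRing.maximalIdeal L := Ideal.mul_mem_right _ _ hx
    exact (IsLocalRing.maximalIdeal.isMaximal L).ne_top ((Ideal.eq_top_iff_one _).2 (by simpa using sub_mem h2 h1))
  have hmax' : ∀ x : R', x ∈ IsLocalRing.maximalIdeal R' → τ' ∣ x := by
    intro x hx
    obtain ⟨x, rfl⟩ := Ideal.Quotient.mk_surjective x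
    have hx' : x ∈ IsLocalRing.maximalIdeal L := fun hu => hx (hu.map _)
    rw [hmax, Ideal.mem_span_singleton] at hx'
    exact map_dvd _ hx'
  have hτ' : τ' ∈ IsLocalRing.maximalIdeal R' := fun hu =>
    (show τ ∈ IsLocalRing.maximalIdeal L from hmax ▸ Ideal.mem_span_singleton_self τ) (hunit τ hu)
  have hfac : ∀ x : R', x ≠ 0 → ∃ (n : ℕ) (v : R'), IsUnit v ∧ x = τ' ^ n * v := by
    intro x hx
    by_contra h
    push_neg at h
    apply hx
    have hdvd : ∀ n, τ' ^ n ∣ x := by
      intro n
      induction n with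
      | zero => simp
      | succ n ih =>
        obtain ⟨v, hv⟩ := ih
        obtain ⟨w, hw⟩ := hmax' v (fun hu => h n v hu hv)
        exact ⟨w, by rw [hv, hw, pow_succ, mul_assoc]⟩
    obtain ⟨x, rfl⟩ := Ideal.Quotient.mk_surjective x
    rw [Ideal.Quotient.eq_zero_iff_mem, Ideal.mem_iInf]
    intro n
    obtain ⟨v, hv⟩ := hdvd n
    obtain ⟨v, rfl⟩ := Ideal.Quotient.mk_surjective v
    rw [← map_pow, ← map_mul, Ideal.Quotient.eq] at hv
    have h1 : x - τ ^ n * v ∈ Ideal.span {τ ^ n} := Ideal.mem_iInf.1 hv n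
    have := Ideal.add_mem _ h1 (Ideal.mul_mem_right v _ (Ideal.mem_span_singleton_self (τ ^ n)))
    simpa using this
  have hne : ∀ n, τ' ^ n ≠ 0 := fun n h => hpow n (by rwa [← map_pow, Ideal.Quotient.eq_zero_iff_mem] at h)
  haveI : NoZeroDivisors R' := ⟨fun {x y} hxy => by
    by_contra h
    push_neg at h
    obtain ⟨n, v, hv, rfl⟩ := hfac x h.1
    obtain ⟨m, w, hw, rfl⟩ := hfac y h.2
    refine hne (n + m) ((hv.mul hw).mul_left_eq_zero.1 ?_)
    rw [← hxy, pow_add]
    ring⟩
  haveI : IsDomain R' := NoZeroDivisors.to_isDomain R'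
  have hirr : Irreducible τ' := by
    refine ⟨hτ', fun a b hab => ?_⟩
    by_contra h
    push_neg at h
    obtain ⟨a', rfl⟩ := hmax' a h.1
    obtain ⟨b', rfl⟩ := hmax' b h.2
    have h1 : 1 = τ' * (a' * b') := mul_left_cancel₀ (show τ' ≠ 0 by simpa using hne 1) (by rw [mul_one]; linear_combination hab)
    exact hτ' (IsUnit.of_mul_eq_one _ h1.symm)
  haveI : IsDiscreteValuationRing R' :=
    IsDiscreteValuationRing.ofHasUnitMulPowIrreducibleFactorization
      ⟨τ', hirr, fun {x} hx => by
        obtain ⟨n, v, hv, rfl⟩ := hfac x hx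
        exact ⟨n, hv.unit, rfl⟩⟩
  let φ : R →+* R' := (Ideal.Quotient.mk N).comp φ₀
  have hφπ : φ π = τ' := rfl
  have hlocal : IsLocalHom φ := by
    constructor
    intro x hx
    by_contra h
    have h' : x ∈ Ideal.span {π} := by rw [← hπ.maximalIdeal_eq]; exact h
    obtain ⟨y, rfl⟩ := Ideal.mem_span_singleton.1 h'
    rw [map_mul, hφπ] at hx
    exact hτ' (isUnit_of_mul_isUnit_left hx)
  letI : Algebra k' R' := Ideal.Quotient.algebra k'
  refine ⟨R', inferInstance, inferInstance, inferInstance, inferInstance, φ, hlocal, ?_, ?_, ?_⟩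
  · rw [injective_iff_map_eq_zero]
    intro x hx
    by_contra h
    obtain ⟨n, v, rfl⟩ := IsDiscreteValuationRing.eq_unit_mul_pow_irreducible h hπ
    rw [map_mul, map_pow, hφπ] at hx
    exact hne n ((v.isUnit.map φ).mul_right_eq_zero.1 hx)
  · ext c
    change Ideal.Quotient.mk N (φ₀ (algebraMap k R c)) = Ideal.Quotient.mk N (algebraMap k' L (algebraMap k k' c))
    exact congrArg _ (DFunLike.congr_fun hcomm c)
  · let e : (L ⧸ RingHom.ker ψ') ≃ₐ[k'] K₀ := Ideal.quotientKerAlgEquivOfSurjective hψs
    let g : L →ₐ[k'] R' ⧸ IsLocalRing.maximalIdeal R' :=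
      (Ideal.Quotient.mkₐ k' _).comp (AlgHom.mk (Ideal.Quotient.mk N) fun _ => rfl)
    have hg : ∀ x, g x = 0 ↔ x ∈ RingHom.ker ψ' := by
      intro x
      rw [hker]
      change Ideal.Quotient.mk _ (Ideal.Quotient.mk N x) = 0 ↔ _
      rw [Ideal.Quotient.eq_zero_iff_mem]
      exact ⟨fun h hu => h (hu.map _), fun h hu => h (hunit x hu)⟩
    let g' : (L ⧸ RingHom.ker ψ') →ₐ[k'] R' ⧸ IsLocalRing.maximalIdeal R' :=
      Ideal.Quotient.liftₐ _ g fun x hx => (hg x).2 hx
    have hg' : Function.Bijective g' := by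
      constructor
      · rw [injective_iff_map_eq_zero]
        intro z hz
        obtain ⟨x, rfl⟩ := Ideal.Quotient.mk_surjective z
        exact Ideal.Quotient.eq_zero_iff_mem.2 ((hg x).1 hz)
      · intro z
        obtain ⟨z, rfl⟩ := Ideal.Quotient.mk_surjective z
        obtain ⟨x, rfl⟩ := Ideal.Quotient.mk_surjective z
        exact ⟨Ideal.Quotient.mk _ x, rfl⟩
    exact Algebra.IsGeometricallyReduced.of_injective
      (e.toAlgHom.comp (AlgEquiv.ofBijective g' hg').symm.toAlgHom)
      (e.injective.comp (AlgEquiv.ofBijective g' hg').symm.injective)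

end GrothLib.PseudoCompl
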